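import Mathlib
import Cfsg.Agent.Lib.H24.SelfDualAbelian

/-!
# The one-dimensional semilinear model (helper4)

If a linear automorphism `a` of a finite vector space `V` over `ZMod q` acts irreducibly, then `V`
can be identified with the additive group of a finite field `F` in such a way that every linear
automorphism `h` normalizing `⟨a⟩` acts as `x ↦ c * σ x` with `σ` a field automorphism.
-/

set_option autoImplicit false

namespace Cfsg.Agent.Lib.H4.Reg

theorem exists_semilinear_model {q : ℕ} [Fact q.Prime] {V : Type*} [AddCommGroup V]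
    [Module (ZMod q) V] [Finite V] [Nontrivial V] (a : V ≃ₗ[ZMod q] V)
    (hirr : ∀ W : Submodule (ZMod q) V, (∀ v ∈ W, a v ∈ W) → (∀ v ∈ W, a.symm v ∈ W) →
      W = ⊥ ∨ W = ⊤) :
    ∃ (F : Type) (_ : Field F) (_ : Fintype F) (e : V ≃+ F),
      ∀ h : V ≃ₗ[ZMod q] V, (∃ j : ℤ, h * a * h⁻¹ = a ^ j) →
        ∃ (c : F) (σ : F ≃+* F), ∀ v : V, e (h v) = c * σ (e v) := by
  classical
  let ρ' : Representation (ZMod q) (Multiplicative ℤ) V :=
    LinearEquiv.automorphismGroup.toLinearMapMonoidHom.comp (zpowersHom (V ≃ₗ[ZMod q] V) a)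
  have hρ' : ∀ (n : Multiplicative ℤ) (v : V), ρ' n v = (a ^ n.toAdd) v := fun n v => rfl
  have hirr' : ∀ U : Submodule (ZMod q) V,
      (∀ h : Multiplicative ℤ, ∀ u ∈ U, ρ' h u ∈ U) → U = ⊥ ∨ U = ⊤ := by
    intro U hU
    apply hirr U
    · intro v hv
      have := hU (Multiplicative.ofAdd 1) v hv
      rw [hρ'] at this
      simpa using this
    · intro v hv
      have := hU (Multiplicative.ofAdd (-1)) v hv
      rw [hρ'] at this
      simpa using this
  obtain ⟨L, fL, aL, ι, e₀, hadj, he₀⟩ :=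
    Cfsg.Agent.Lib.H24.SelfDualAbelian.exists_field_model ρ' hirr'
  haveI : Finite L := Finite.of_equiv V e₀.symm.toEquiv
  haveI := Fintype.ofFinite L
  refine ⟨L, fL, inferInstance, e₀.symm.toAddEquiv, ?_⟩
  rintro h ⟨j, hj⟩
  let T : L →ₗ[ZMod q] L := e₀.symm.toLinearMap ∘ₗ h.toLinearMap ∘ₗ e₀.toLinearMap
  have hT : ∀ x, T x = e₀.symm (h (e₀ x)) := fun x => rfl
  have key : ∀ (n : Multiplicative ℤ) (x : L), T (ι n * x) = ι n ^ j * T x := by
    intro n x
    rw [hT, he₀, hρ']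
    have h1 : h * a ^ n.toAdd = (a ^ j) ^ n.toAdd * h := by
      have : h * a ^ n.toAdd * h⁻¹ = (h * a * h⁻¹) ^ n.toAdd := by rw [conj_zpow]
      rw [← hj, ← this]
      group
    have h2 : h ((a ^ n.toAdd) (e₀ x)) = ((a ^ j) ^ n.toAdd) (h (e₀ x)) := by
      have := congrArg (fun f : V ≃ₗ[ZMod q] V => f (e₀ x)) h1
      simpa [LinearEquiv.mul_apply] using this
    rw [h2]
    have h3 : ((a ^ j) ^ n.toAdd) (h (e₀ x)) = ρ' (n ^ j) (h (e₀ x)) := by
      rw [hρ', toAdd_zpow, ← zpow_mul, smul_eq_mul]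
    rw [h3]
    have h4 : h (e₀ x) = e₀ (e₀.symm (h (e₀ x))) := (e₀.apply_symm_apply _).symm
    rw [h4, ← he₀, e₀.symm_apply_apply, map_zpow, hT]
  set c : L := T 1 with hc
  have hTinj : Function.Injective T := by
    intro x y hxy
    rw [hT, hT] at hxy
    exact e₀.injective (h.injective (e₀.symm.injective hxy))
  have hc0 : c ≠ 0 := by
    intro h0
    have : T 1 = T 0 := by rw [← hc, h0, map_zero]
    exact one_ne_zero (hTinj this)
  obtain ⟨σ₀, hσ₀⟩ : ∃ σ₀ : L → L, ∀ x, σ₀ x = c⁻¹ * T x := ⟨fun x => c⁻¹ * T x, fun x => rfl⟩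
  have hσadd : ∀ x y, σ₀ (x + y) = σ₀ x + σ₀ y := by
    intro x y
    rw [hσ₀, hσ₀, hσ₀, map_add, mul_add]
  have hσsmul : ∀ (r : ZMod q) (x : L), σ₀ (r • x) = r • σ₀ x := by
    intro r x
    rw [hσ₀, hσ₀, map_smul, mul_smul_comm]
  have hσι : ∀ (n : Multiplicative ℤ) (x : L), σ₀ (ι n * x) = ι n ^ j * σ₀ x := by
    intro n x
    rw [hσ₀, hσ₀, key]
    ring
  have hσ1 : σ₀ 1 = 1 := by
    rw [hσ₀, ← hc]
    exact inv_mul_cancel₀ hc0
  have hσιn : ∀ n : Multiplicative ℤ, σ₀ (ι n) = ι n ^ j := by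
    intro n
    have := hσι n 1
    rwa [mul_one, hσ1, mul_one] at this
  have hmul : ∀ x y, σ₀ (x * y) = σ₀ x * σ₀ y := by
    intro x
    have hx : x ∈ Algebra.adjoin (ZMod q) (Set.range ι) := by rw [hadj]; trivial
    induction hx using Algebra.adjoin_induction with
    | mem x hx =>
      obtain ⟨n, rfl⟩ := hx
      intro y
      rw [hσι, hσιn]
    | algebraMap r =>
      intro y
      rw [Algebra.algebraMap_eq_smul_one, smul_mul_assoc, one_mul, hσsmul, hσsmul, hσ1,
        smul_mul_assoc, one_mul]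
    | add x y _ _ hx hy =>
      intro z
      rw [add_mul, hσadd, hσadd, hx, hy, add_mul]
    | mul x y _ _ hx hy =>
      intro z
      rw [mul_assoc, hx, hy, hx, mul_assoc]
  have hσinj : Function.Injective σ₀ := by
    intro x y hxy
    rw [hσ₀, hσ₀] at hxy
    exact hTinj (mul_left_cancel₀ (inv_ne_zero hc0) hxy)
  have hσbij : Function.Bijective σ₀ := Finite.injective_iff_bijective.mp hσinj
  have hσ0 : σ₀ 0 = 0 := by rw [hσ₀, map_zero, mul_zero]
  let σr : L →+* L :=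
    { toFun := σ₀
      map_one' := hσ1
      map_mul' := hmul
      map_zero' := hσ0
      map_add' := hσadd }
  refine ⟨c, RingEquiv.ofBijective σr hσbij, ?_⟩
  intro v
  show e₀.symm (h v) = c * σ₀ (e₀.symm v)
  rw [hσ₀, hT, e₀.apply_symm_apply, ← mul_assoc, mul_inv_cancel₀ hc0, one_mul]

end Cfsg.Agent.Lib.H4.Reg
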