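import Mathlib
import Cfsg.Agent.Lib.H4.FC.G0
import Cfsg.Agent.Lib.H22.QuatSylowSL23

/-!
# Index two or `SL(2,3)` (helper4)

For a finite solvable group whose abelian subgroups are cyclic and which has no normal
`2`-complement: if `16 ∣ |G|` there is a normal subgroup of index `2`; if `|G| = 24` then
`G ≅ SL(2,3)`; if `|G| = 120` then `G ≅ SL(2,3) × C₅`.
-/

set_option autoImplicit false

namespace Cfsg.Agent.Lib.H4.Reg

open Subgroup Cfsg.Agent.Lib.H4.NF Cfsg.Agent.Lib.H4.Idx2 Cfsg.Agent.Lib.L0 Cfsg.Agent.Lib.H22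
open Cfsg.Agent.Lib.H4.FC

open QuaternionGroup in
theorem q8_rels : (a 1 : QuaternionGroup 2) ^ 4 = 1 ∧ (a 1 : QuaternionGroup 2) ^ 2 ≠ 1 ∧
    (xa 0 : QuaternionGroup 2) * xa 0 = (a 1) ^ 2 ∧
    (xa 0 : QuaternionGroup 2) * a 1 * (xa 0)⁻¹ = (a 1)⁻¹ ∧
    (a 1 : QuaternionGroup 2) * xa 0 ≠ xa 0 * a 1 := by decide

variable {G : Type*} [Group G]

/-- no element of order four centralizes a quaternion subgroup of order eight -/
theorem no_order_four_of_centralizer_Q8 [Finite G] (h : AbCyc G) (Q : Subgroup G)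
    (e : Q ≃* QuaternionGroup 2) {t : G} (ht : t ∈ centralizer (Q : Set G))
    (hto : orderOf t = 4) : False := by
  set x : G := ((e.symm (QuaternionGroup.a 1) : Q) : G) with hx
  set y : G := ((e.symm (QuaternionGroup.xa 0) : Q) : G) with hy
  have hxo : orderOf x = 4 := by
    rw [hx, Subgroup.orderOf_coe, MulEquiv.orderOf_eq, QuaternionGroup.orderOf_a_one]
  have hyo : orderOf y = 4 := by
    rw [hy, Subgroup.orderOf_coe, MulEquiv.orderOf_eq, QuaternionGroup.orderOf_xa]
  have hxy : x * y ≠ y * x := by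
    intro hc
    have h1 : (e.symm (QuaternionGroup.a 1) * e.symm (QuaternionGroup.xa 0) : Q) =
        e.symm (QuaternionGroup.xa 0) * e.symm (QuaternionGroup.a 1) := Subtype.ext hc
    rw [← map_mul, ← map_mul] at h1
    exact q8_rels.2.2.2.2 (e.symm.injective h1)
  rw [Subgroup.mem_centralizer_iff] at ht
  have htx : x * t = t * x := ht x (e.symm (QuaternionGroup.a 1)).2
  have hty : y * t = t * y := ht y (e.symm (QuaternionGroup.xa 0)).2
  have hx' : x ∈ zpowers t := by
    apply h.mem_zpowers t x htx.symm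
    rw [hto, ← hxo]
    exact pow_orderOf_eq_one x
  have hy' : y ∈ zpowers t := by
    apply h.mem_zpowers t y hty.symm
    rw [hto, ← hyo]
    exact pow_orderOf_eq_one y
  obtain ⟨a, ha⟩ := mem_zpowers_iff.mp hx'
  obtain ⟨b, hb⟩ := mem_zpowers_iff.mp hy'
  apply hxy
  rw [← ha, ← hb]
  exact zpow_mul_comm t a b

theorem card_alternatingGroup_four : Nat.card (alternatingGroup (Fin 4)) = 12 := by
  have h := two_mul_card_alternatingGroup (α := Fin 4)
  rw [Fintype.card_perm, Fintype.card_fin] at h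
  rw [Nat.card_eq_fintype_card]
  have : (4 : ℕ).factorial = 24 := by decide
  omega

/-- **index two**: when `16` divides the order -/
theorem exists_index_two_of_sixteen_dvd [Finite G] (h : AbCyc G) [hs : Group.IsSolvable G]
    (hF : ¬ FrobHyp 2 G) (h16 : 16 ∣ Nat.card G) : ∃ N : Subgroup G, N.Normal ∧ N.index = 2 := by
  haveI : Fact (Nat.Prime 2) := ⟨Nat.prime_two⟩
  obtain ⟨Q, hQn, ⟨e⟩⟩ := exists_normal_Q8_of_not_frobHyp h hF
  obtain ⟨ψ⟩ := Cfsg.Agent.S3742.result
  let f : G →* Equiv.Perm (Fin 4) :=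
    ψ.toMonoidHom.comp ((MulAut.congr e).toMonoidHom.comp (MulAut.conjNormal (H := Q)))
  have hker : f.ker ≤ centralizer (Q : Set G) := by
    intro t ht
    have h1 : f t = 1 := ht
    have h2 : MulAut.conjNormal (H := Q) t = 1 := by
      have h3 : ψ ((MulAut.congr e) (MulAut.conjNormal (H := Q) t)) = 1 := h1
      have h4 := ψ.injective (h3.trans (map_one ψ).symm)
      exact (MulAut.congr e).injective (h4.trans (map_one _).symm)
    rw [Subgroup.mem_centralizer_iff]
    intro q hq
    have h5 := congrArg (fun g : MulAut Q => ((g ⟨q, hq⟩ : Q) : G)) h2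
    simp only [MulAut.conjNormal_apply, MulAut.one_apply] at h5
    calc q * t = (t * q * t⁻¹) * t := by rw [h5]
      _ = t * q := by group
  have h4 : ¬ 4 ∣ Nat.card f.ker := by
    intro h4
    obtain ⟨T, hT⟩ := Sylow.exists_subgroup_card_pow_prime 2 (n := 2) (G := f.ker) h4
    haveI : IsMulCommutative T := IsPGroup.isMulCommutative_of_card_eq_prime_sq hT
    have hcyc : IsCyclic T := (h.subgroup f.ker) T inferInstance
    obtain ⟨t, ht⟩ := IsCyclic.exists_generator (α := T)
    have hto : orderOf t = 4 := by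
      rw [orderOf_eq_card_of_forall_mem_zpowers ht, hT]; norm_num
    have hto' : orderOf (((t : T) : f.ker) : G) = 4 := by
      rw [Subgroup.orderOf_coe, Subgroup.orderOf_coe, hto]
    exact no_order_four_of_centralizer_Q8 h Q e (hker (t : f.ker).2) hto'
  have hcard : Nat.card G = Nat.card f.ker * Nat.card f.range := by
    rw [← Subgroup.index_ker f]
    exact (Subgroup.card_mul_index f.ker).symm
  have h8 : 8 ∣ Nat.card f.range := by
    rw [hcard] at h16
    by_cases h2 : 2 ∣ Nat.card f.ker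
    · obtain ⟨k', hk'⟩ := h2
      have hk'odd : ¬ 2 ∣ k' := by
        rintro ⟨k'', rfl⟩
        exact h4 ⟨k'', by rw [hk']; ring⟩
      rw [hk', mul_assoc] at h16
      have h8' : 8 ∣ k' * Nat.card f.range := by
        obtain ⟨c, hc⟩ := h16
        exact ⟨c, by omega⟩
      have hcop : Nat.Coprime 8 k' := by
        have : Nat.Coprime (2 ^ 3) k' :=
          Nat.Coprime.pow_left 3 ((Nat.Prime.coprime_iff_not_dvd Nat.prime_two).mpr hk'odd)
        simpa using this
      exact hcop.dvd_of_dvd_mul_left h8'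
    · have hcop : Nat.Coprime 16 (Nat.card f.ker) := by
        have : Nat.Coprime (2 ^ 4) (Nat.card f.ker) :=
          Nat.Coprime.pow_left 4 ((Nat.Prime.coprime_iff_not_dvd Nat.prime_two).mpr h2)
        simpa using this
      exact (by norm_num : 8 ∣ 16).trans (hcop.dvd_of_dvd_mul_left h16)
  let s : G →* ℤˣ := Equiv.Perm.sign.comp f
  by_cases hs1 : ∀ g, s g = 1
  · exfalso
    have hle : f.range ≤ alternatingGroup (Fin 4) := by
      rintro _ ⟨g, rfl⟩
      rw [Equiv.Perm.mem_alternatingGroup]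
      exact hs1 g
    have h12 := Subgroup.card_dvd_of_le hle
    rw [card_alternatingGroup_four] at h12
    have := h8.trans h12
    omega
  · push Not at hs1
    obtain ⟨g, hg⟩ := hs1
    have hg' : s g = -1 := (Int.units_eq_one_or (s g)).resolve_left hg
    refine ⟨s.ker, inferInstance, ?_⟩
    rw [Subgroup.index_ker]
    have hrange : s.range = ⊤ := by
      rw [eq_top_iff]
      intro u _
      rcases Int.units_eq_one_or u with rfl | rfl
      · exact one_mem _
      · exact ⟨g, hg'⟩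
    rw [hrange, Subgroup.card_top]
    simp

/-- a triple in a subgroup -/
theorem triple_to_subgroup {i j w : G} (h : SL23Triple i j w) (S : Subgroup G) (hi : i ∈ S)
    (hj : j ∈ S) (hw : w ∈ S) : SL23Triple (⟨i, hi⟩ : S) ⟨j, hj⟩ ⟨w, hw⟩ where
  i4 := Subtype.ext (by simpa using h.i4)
  i2 := fun hh => h.i2 (by simpa using congrArg Subtype.val hh)
  jj := Subtype.ext (by simpa using h.jj)
  ji := Subtype.ext (by simpa using h.ji)
  w3 := Subtype.ext (by simpa using h.w3)
  w1 := fun hh => h.w1 (by simpa using congrArg Subtype.val hh)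
  wi := Subtype.ext (by simpa using h.wi)
  wj := Subtype.ext (by simpa using h.wj)

/-- the subgroup generated by a triple is `SL(2,3)` -/
theorem triple_closure_iso [Finite G] {i j w : G} (h : SL23Triple i j w) :
    Nat.card (closure ({i, j, w} : Set G)) = 24 ∧
      Nonempty (closure ({i, j, w} : Set G) ≃* Matrix.SpecialLinearGroup (Fin 2) (ZMod 3)) := by
  obtain ⟨S, hS⟩ : ∃ S : Subgroup G, S = closure ({i, j, w} : Set G) := ⟨_, rfl⟩
  rw [← hS]
  have hi : i ∈ S := by rw [hS]; exact subset_closure (by simp)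
  have hj : j ∈ S := by rw [hS]; exact subset_closure (by simp)
  have hw : w ∈ S := by rw [hS]; exact subset_closure (by simp)
  have hT := triple_to_subgroup h S hi hj hw
  have htop : closure ({⟨i, hi⟩, ⟨j, hj⟩, ⟨w, hw⟩} : Set S) = ⊤ := by
    apply Subgroup.map_injective S.subtype_injective
    rw [MonoidHom.map_closure, ← MonoidHom.range_eq_map, Subgroup.range_subtype]
    conv_rhs => rw [hS]
    congr 1
    simp [Set.image_insert_eq]
  refine ⟨?_, hT.nonempty_mulEquiv_sl23 htop⟩
  apply Nat.dvd_antisymm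
  · rw [hS]; exact h.card_closure_dvd
  · exact hT.dvd_card

/-- the triple attached to an element of order three acting on a quaternion group -/
theorem exists_triple [Finite G] (Q : Subgroup G) (e : Q ≃* QuaternionGroup 2) {w : G}
    (hwN : w ∈ normalizer (Q : Set G)) (hw3 : w ^ 3 = 1) (hwC : w ∉ centralizer (Q : Set G)) :
    ∃ i j : G, i ∈ Q ∧ j ∈ Q ∧ SL23Triple i j w := by
  obtain ⟨x, hxdef⟩ : ∃ x : G, x = ((e.symm (QuaternionGroup.a 1) : Q) : G) := ⟨_, rfl⟩
  obtain ⟨y, hydef⟩ : ∃ y : G, y = ((e.symm (QuaternionGroup.xa 0) : Q) : G) := ⟨_, rfl⟩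
  obtain ⟨r1, r2, r3, r4, -⟩ := q8_rels
  have hx4 : x ^ 4 = 1 := by
    rw [hxdef, ← Subgroup.coe_pow, ← map_pow, r1, map_one, Subgroup.coe_one]
  have hx2 : x ^ 2 ≠ 1 := by
    rw [hxdef, ← Subgroup.coe_pow, ← map_pow]
    intro h
    apply r2
    apply e.symm.injective
    rw [map_one]
    exact Subtype.ext h
  have hyy : y * y = x ^ 2 := by
    rw [hxdef, hydef, ← Subgroup.coe_pow, ← Subgroup.coe_mul, ← map_pow, ← map_mul, r3]
  have hyx : y * x * y⁻¹ = x⁻¹ := by
    rw [hxdef, hydef, ← Subgroup.coe_inv, ← Subgroup.coe_mul, ← Subgroup.coe_mul,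
      ← Subgroup.coe_inv, ← map_inv, ← map_mul, ← map_mul, r4, map_inv]
  have hxQ : x ∈ Q := by rw [hxdef]; exact Subtype.coe_prop _
  have hyQ : y ∈ Q := by rw [hydef]; exact Subtype.coe_prop _
  have hQeq : Subgroup.closure ({x, y} : Set G) = Q := by
    have hle : Subgroup.closure ({x, y} : Set G) ≤ Q := by
      rw [Subgroup.closure_le]
      rintro z (rfl | rfl)
      · exact hxQ
      · exact hyQ
    apply Subgroup.eq_of_le_of_card_ge hle
    obtain ⟨Q', ⟨e'⟩, -, -, hQ'le, -⟩ := q8_exists_subgroup hx4 hx2 hyy hyx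
    calc Nat.card Q = Nat.card Q' := Nat.card_congr (e.trans e'.symm).toEquiv
      _ ≤ _ := Subgroup.card_le_of_le hQ'le
  have hconj : ∀ q ∈ Q, w * q * w⁻¹ ∈ Q := fun q hq =>
    ((Subgroup.mem_normalizer_iff.mp hwN) q).mp hq
  have hw1 : w ≠ 1 := by
    rintro rfl
    exact hwC (one_mem _)
  have hodd : Odd (orderOf w) := by
    have : orderOf w ∣ 3 := orderOf_dvd_of_pow_eq_one hw3
    rcases (Nat.dvd_prime Nat.prime_three).mp this with h1 | h3
    · rw [h1]; exact odd_one
    · rw [h3]; decide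
  have hnc : ¬ (Commute w x ∧ Commute w y) := by
    rintro ⟨h1, h2⟩
    apply hwC
    rw [Subgroup.mem_centralizer_iff]
    have hle : Subgroup.closure ({x, y} : Set G) ≤ Subgroup.centralizer {w} := by
      rw [Subgroup.closure_le]
      rintro z (rfl | rfl)
      · exact Subgroup.mem_centralizer_singleton_iff.mpr h1.eq.symm
      · exact Subgroup.mem_centralizer_singleton_iff.mpr h2.eq.symm
    intro q hq
    rw [← hQeq] at hq
    exact Subgroup.mem_centralizer_singleton_iff.mp (hle hq)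
  obtain ⟨i, j, hiQ, hjQ, hi4, hi2, hjj, hji, hgi, hgj⟩ :=
    exists_sl23_gens hx4 hx2 hyy hyx hodd
      (by rw [hQeq]; exact hconj x hxQ) (by rw [hQeq]; exact hconj y hyQ) hnc
  rw [hQeq] at hiQ hjQ
  exact ⟨i, j, hiQ, hjQ, ⟨hi4, hi2, hjj, hji, hw3, hw1, hgi, hgj⟩⟩

/-- order `24` -/
theorem iso_sl23_of_card [Finite G] {Q : Subgroup G} {g : G} (d : QData Q g)
    (hcard : Nat.card G = 24) :
    Nonempty (G ≃* Matrix.SpecialLinearGroup (Fin 2) (ZMod 3)) := by
  obtain ⟨e⟩ := d.iso
  have hg3 : g ^ 3 = 1 := by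
    have h1 : orderOf g ∣ 24 := hcard ▸ orderOf_dvd_natCard g
    have h2 : Nat.Coprime (orderOf g) 8 := by
      have : Nat.Coprime (orderOf g) (2 ^ 3) :=
        Nat.Coprime.pow_right 3 (Nat.coprime_two_right.mpr d.odd)
      simpa using this
    have h3 : orderOf g ∣ 3 := by
      have : orderOf g ∣ 8 * 3 := by simpa using h1
      exact h2.dvd_of_dvd_mul_left this
    exact orderOf_dvd_iff_pow_eq_one.mp h3
  obtain ⟨i, j, -, -, hT⟩ := exists_triple Q e d.norm hg3 d.ncent
  obtain ⟨h24, ⟨ε⟩⟩ := triple_closure_iso hT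
  have htop : closure ({i, j, g} : Set G) = ⊤ := by
    apply Subgroup.eq_top_of_card_eq
    rw [h24, hcard]
  exact ⟨(Subgroup.topEquiv.symm.trans (MulEquiv.subgroupCongr htop.symm)).trans ε⟩

/-- an element normalizing `Q` of order prime to `|Aut Q|` centralizes `Q` -/
theorem mem_centralizer_of_coprime_mulAut (Q : Subgroup G) {z : G}
    (hz : z ∈ normalizer (Q : Set G))
    (hcop : Nat.Coprime (orderOf z) (Nat.card (MulAut Q))) : z ∈ centralizer (Q : Set G) := by
  have hm : (Q.normalizerMonoidHom ⟨z, hz⟩) ^ orderOf z = 1 := by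
    rw [← map_pow]
    have : (⟨z, hz⟩ : Subgroup.normalizer (Q : Set G)) ^ orderOf z = 1 :=
      Subtype.ext (by simp)
    rw [this, map_one]
  have h1 : orderOf (Q.normalizerMonoidHom ⟨z, hz⟩) ∣ orderOf z := orderOf_dvd_of_pow_eq_one hm
  have h2 : orderOf (Q.normalizerMonoidHom ⟨z, hz⟩) ∣ Nat.card (MulAut Q) :=
    orderOf_dvd_natCard _
  have h3 : orderOf (Q.normalizerMonoidHom ⟨z, hz⟩) = 1 :=
    Nat.eq_one_of_dvd_coprimes hcop h1 h2
  have h4 : (⟨z, hz⟩ : Subgroup.normalizer (Q : Set G)) ∈ Q.normalizerMonoidHom.ker := by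
    rw [MonoidHom.mem_ker]; exact orderOf_eq_one_iff.mp h3
  rw [Subgroup.normalizerMonoidHom_ker, Subgroup.mem_subgroupOf] at h4
  exact h4

end Cfsg.Agent.Lib.H4.Reg
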