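import Mathlib
import Cfsg.Agent.Lib.H4.Reg.Excep

/-!
# Order `120` (helper4)

A solvable group of order `120` whose abelian subgroups are cyclic and which has no normal
`2`-complement is isomorphic to `SL(2,3) × C₅`.
-/

set_option autoImplicit false

namespace Cfsg.Agent.Lib.H4.Reg

open Subgroup Cfsg.Agent.Lib.H4.NF Cfsg.Agent.Lib.H4.Idx2 Cfsg.Agent.Lib.L0 Cfsg.Agent.Lib.H22
open Cfsg.Agent.Lib.H4.FC

variable {G : Type*} [Group G]

theorem iso_sl23_prod_of_card [Finite G] (h : AbCyc G) [hs : Group.IsSolvable G]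
    {Q : Subgroup G} {g : G} (d : QData Q g) (hF : ¬ FrobHyp 2 G) (hcard : Nat.card G = 120) :
    Nonempty (G ≃* Matrix.SpecialLinearGroup (Fin 2) (ZMod 3) × Multiplicative (ZMod 5)) := by
  haveI : Fact (Nat.Prime 2) := ⟨Nat.prime_two⟩
  haveI : Fact (Nat.Prime 5) := ⟨by norm_num⟩
  obtain ⟨e⟩ := d.iso
  have hQcard : Nat.card Q = 8 := by
    rw [Nat.card_congr e.toEquiv, Nat.card_eq_fintype_card, QuaternionGroup.card]
  -- `Q` is normal
  haveI hQn : Q.Normal := by
    obtain ⟨Q₁, hQ₁n, ⟨e₁⟩⟩ := exists_normal_Q8_of_not_frobHyp h hF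
    have hQ₁card : Nat.card Q₁ = 8 := by
      rw [Nat.card_congr e₁.toEquiv, Nat.card_eq_fintype_card, QuaternionGroup.card]
    have hQ2 : IsPGroup 2 Q := IsPGroup.of_card (n := 3) (by rw [hQcard]; norm_num)
    have hQ₁2 : IsPGroup 2 Q₁ := IsPGroup.of_card (n := 3) (by rw [hQ₁card]; norm_num)
    have hJ : IsPGroup 2 (Q ⊔ Q₁ : Subgroup G) := IsPGroup.to_sup_of_normal_right hQ2 hQ₁2
    obtain ⟨k, hk⟩ := IsPGroup.iff_card.mp hJ
    have hJle : Nat.card (Q ⊔ Q₁ : Subgroup G) ≤ 8 := by
      have h1 : 2 ^ k ∣ 120 := by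
        rw [← hk, ← hcard]; exact Subgroup.card_subgroup_dvd_card _
      have h2 : 2 ^ k ∣ 8 := by
        have hcop : Nat.Coprime (2 ^ k) 15 := Nat.Coprime.pow_left k (by norm_num)
        have : 2 ^ k ∣ 8 * 15 := by simpa using h1
        exact hcop.dvd_of_dvd_mul_right this
      rw [hk]
      exact Nat.le_of_dvd (by norm_num) h2
    have h1 : Q = Q ⊔ Q₁ := Subgroup.eq_of_le_of_card_ge le_sup_left (by rw [hQcard]; exact hJle)
    have h2 : Q₁ = Q ⊔ Q₁ :=
      Subgroup.eq_of_le_of_card_ge le_sup_right (by rw [hQ₁card]; exact hJle)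
    rw [h1, ← h2]
    exact hQ₁n
  -- the element of order three
  have hg15 : orderOf g ∣ 15 := by
    have h1 : orderOf g ∣ 120 := hcard ▸ orderOf_dvd_natCard g
    have h2 : Nat.Coprime (orderOf g) 8 := by
      have : Nat.Coprime (orderOf g) (2 ^ 3) :=
        Nat.Coprime.pow_right 3 (Nat.coprime_two_right.mpr d.odd)
      simpa using this
    have : orderOf g ∣ 8 * 15 := by simpa using h1
    exact h2.dvd_of_dvd_mul_left this
  obtain ⟨w, hwdef⟩ : ∃ w : G, w = g ^ 10 := ⟨_, rfl⟩
  have hw3 : w ^ 3 = 1 := by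
    rw [hwdef, ← pow_mul]
    apply orderOf_dvd_iff_pow_eq_one.mp
    exact hg15.trans (by norm_num)
  have hwC : w ∉ centralizer (Q : Set G) := by
    rw [hwdef, d.pow_mem_centralizer_iff]
    norm_num
  have hwN : w ∈ normalizer (Q : Set G) := by rw [hwdef]; exact d.pow_mem_normalizer 10
  obtain ⟨i, j, hiQ, hjQ, hT⟩ := exists_triple Q e hwN hw3 hwC
  obtain ⟨h24, ⟨ε⟩⟩ := triple_closure_iso hT
  obtain ⟨S, hS⟩ : ∃ S : Subgroup G, S = closure ({i, j, w} : Set G) := ⟨_, rfl⟩
  rw [← hS] at h24 ε
  -- the Sylow 5-subgroup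
  obtain ⟨P⟩ : Nonempty (Sylow 5 G) := Sylow.nonempty
  have hPcard : Nat.card (P : Subgroup G) = 5 := by
    obtain ⟨k, hk⟩ := IsPGroup.iff_card.mp P.2
    have h1 := (P : Subgroup G).card_mul_index
    rw [hcard] at h1
    have h2 : ¬ 5 ∣ (P : Subgroup G).index := P.not_dvd_index
    have h3 : 5 ∣ Nat.card (P : Subgroup G) := by
      have : 5 ∣ Nat.card (P : Subgroup G) * (P : Subgroup G).index := by rw [h1]; norm_num
      rcases (Nat.Prime.dvd_mul (by norm_num)).mp this with h | h
      · exact h
      · exact absurd h h2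
    have h4 : ¬ 25 ∣ Nat.card (P : Subgroup G) := by
      intro h25
      have : 25 ∣ 120 := by rw [← h1]; exact h25.mul_right _
      omega
    rw [hk] at h3 h4 ⊢
    rcases k with _ | _ | k
    · norm_num at h3
    · norm_num
    · exfalso
      apply h4
      exact ⟨5 ^ k, by ring⟩
  -- elements of `P` centralize `Q`
  have hPQ : ∀ z ∈ (P : Subgroup G), z ∈ centralizer (Q : Set G) := by
    intro z hz
    apply mem_centralizer_of_coprime_mulAut Q
    · rw [Subgroup.normalizer_eq_top_iff.2 hQn]; trivial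
    · have h1 : orderOf z ∣ 5 := by
        have := orderOf_dvd_natCard (⟨z, hz⟩ : (P : Subgroup G))
        rwa [Subgroup.orderOf_mk, hPcard] at this
      have h2 : Nat.card (MulAut Q) ∣ 24 := QuatAut.card_mulAut_dvd e
      exact Nat.Coprime.coprime_dvd_left h1 (Nat.Coprime.coprime_dvd_right h2 (by norm_num))
  -- `P` is normal
  haveI hPn : (P : Subgroup G).Normal := by
    rw [← Subgroup.normalizer_eq_top_iff]
    have hQN : Q ≤ normalizer ((P : Subgroup G) : Set G) := by
      refine le_trans ?_ (Subgroup.centralizer_le_normalizer _)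
      intro q hq
      rw [Subgroup.mem_centralizer_iff]
      intro z hz
      have := hPQ z hz
      rw [Subgroup.mem_centralizer_iff] at this
      exact (this q hq).symm
    have hPN : (P : Subgroup G) ≤ normalizer ((P : Subgroup G) : Set G) := Subgroup.le_normalizer
    have h8 : 8 ∣ Nat.card (normalizer ((P : Subgroup G) : Set G)) := by
      rw [← hQcard]; exact Subgroup.card_dvd_of_le hQN
    have h5 : 5 ∣ Nat.card (normalizer ((P : Subgroup G) : Set G)) := by
      have := Subgroup.card_dvd_of_le hPN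
      rwa [hPcard] at this
    have h40 : 40 ∣ Nat.card (normalizer ((P : Subgroup G) : Set G)) :=
      Nat.Coprime.mul_dvd_of_dvd_of_dvd (by norm_num : Nat.Coprime 8 5) h8 h5
    have h1 := (normalizer ((P : Subgroup G) : Set G)).card_mul_index
    rw [hcard] at h1
    have hmod := card_sylow_modEq_one 5 G
    have hidxeq : Nat.card (Sylow 5 G) = (normalizer ((P : Subgroup G) : Set G)).index :=
      P.card_eq_index_normalizer
    rw [hidxeq] at hmod
    obtain ⟨c, hc⟩ := h40
    rw [hc] at h1
    have hidx : (normalizer ((P : Subgroup G) : Set G)).index = 1 := by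
      have h3 : c * (normalizer ((P : Subgroup G) : Set G)).index = 3 := by
        have : 40 * (c * (normalizer ((P : Subgroup G) : Set G)).index) = 40 * 3 := by
          rw [← mul_assoc, h1]
        exact Nat.eq_of_mul_eq_mul_left (by norm_num) this
      have h4 : (normalizer ((P : Subgroup G) : Set G)).index ∣ 3 := ⟨c, by rw [← h3, mul_comm]⟩
      rcases (Nat.dvd_prime Nat.prime_three).mp h4 with h | h
      · exact h
      · rw [h] at hmod
        exact absurd hmod (by decide)
    exact Subgroup.index_eq_one.mp hidx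
  -- `w` centralizes `P`
  have hwP : w ∈ centralizer ((P : Subgroup G) : Set G) := by
    apply mem_centralizer_of_coprime_mulAut (P : Subgroup G)
    · rw [Subgroup.normalizer_eq_top_iff.2 hPn]; trivial
    · haveI : IsCyclic (P : Subgroup G) := isCyclic_of_prime_card hPcard
      rw [IsCyclic.card_mulAut, hPcard]
      have h1 : orderOf w ∣ 3 := orderOf_dvd_of_pow_eq_one hw3
      have h2 : Nat.totient 5 = 4 := by decide
      rw [h2]
      exact Nat.Coprime.coprime_dvd_left h1 (by norm_num)
  -- `S` centralizes `P`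
  have hSP : S ≤ centralizer ((P : Subgroup G) : Set G) := by
    rw [hS, Subgroup.closure_le]
    have hq : ∀ q ∈ Q, q ∈ centralizer ((P : Subgroup G) : Set G) := by
      intro q hq
      rw [Subgroup.mem_centralizer_iff]
      intro z hz
      have := hPQ z hz
      rw [Subgroup.mem_centralizer_iff] at this
      exact (this q hq).symm
    rintro u (rfl | rfl | rfl)
    · exact hq _ hiQ
    · exact hq _ hjQ
    · exact hwP
  have hcomm : ∀ (s : S) (z : (P : Subgroup G)), Commute (S.subtype s) ((P : Subgroup G).subtype z) := by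
    intro s z
    have := hSP s.2
    rw [Subgroup.mem_centralizer_iff] at this
    exact (this z z.2).symm
  let φ : S × (P : Subgroup G) →* G :=
    MonoidHom.noncommCoprod S.subtype (P : Subgroup G).subtype hcomm
  have hφinj : Function.Injective φ := by
    rw [MonoidHom.noncommCoprod_injective]
    refine ⟨S.subtype_injective, Subgroup.subtype_injective _, ?_⟩
    rw [Subgroup.range_subtype, Subgroup.range_subtype, disjoint_iff, eq_bot_iff]
    intro u hu
    rw [Subgroup.mem_bot]
    have h1 : orderOf u ∣ 24 := by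
      have := orderOf_dvd_natCard (⟨u, hu.1⟩ : S)
      rwa [Subgroup.orderOf_mk, h24] at this
    have h2 : orderOf u ∣ 5 := by
      have := orderOf_dvd_natCard (⟨u, hu.2⟩ : (P : Subgroup G))
      rwa [Subgroup.orderOf_mk, hPcard] at this
    have h3 : orderOf u = 1 := Nat.eq_one_of_dvd_coprimes (by norm_num : Nat.Coprime 24 5) h1 h2
    exact orderOf_eq_one_iff.mp h3
  have hφbij : Function.Bijective φ := by
    rw [Nat.bijective_iff_injective_and_card]
    refine ⟨hφinj, ?_⟩
    rw [Nat.card_prod, h24, hPcard, hcard]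
  have e1 : S × (P : Subgroup G) ≃* G := MulEquiv.ofBijective φ hφbij
  haveI : IsCyclic (P : Subgroup G) := isCyclic_of_prime_card hPcard
  have e2 : (P : Subgroup G) ≃* Multiplicative (ZMod 5) := by
    apply mulEquivOfCyclicCardEq
    rw [hPcard, Nat.card_eq_fintype_card, Fintype.card_multiplicative, ZMod.card]
  exact ⟨e1.symm.trans (MulEquiv.prodCongr ε e2)⟩

end Cfsg.Agent.Lib.H4.Reg
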